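import Groth.Agent.DRingLib.PCGen
import Mathlib.Algebra.Homology.DerivedCategory.KInjective
import Mathlib.Algebra.Homology.ShortComplex.ModuleCat
import Mathlib.CategoryTheory.Linear.Yoneda
import Mathlib.Algebra.Homology.Linear

/-! Cohomology of `Hom(M, J)` for K-injective `J`. -/

set_option autoImplicit false
set_option backward.isDefEq.respectTransparency false
set_option backward.defeqAttrib.useBackward true
set_option linter.style.haveILetI false

universe u

open CategoryTheory CategoryTheory.Limits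

attribute [local instance] HasDerivedCategory.standard

namespace Groth.Agent.CohDer1.RHomFin

variable {A : Type u} [CommRing A] (M : ModuleCat.{u} A) (J : DRing.Cx A)

/-- The complex `Hom(M, J)`. -/
noncomputable abbrev HC : DRing.Cx A :=
  (((linearCoyoneda A (ModuleCat.{u} A)).obj (Opposite.op M)).mapHomologicalComplex (ComplexShape.up ℤ)).obj J

/-- `M` in degree `n`. -/
noncomputable abbrev sgl (n : ℤ) : DRing.Cx A :=
  (HomologicalComplex.single (ModuleCat.{u} A) (ComplexShape.up ℤ) n).obj M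

variable {M J}

/-- The map of complexes of a cycle. -/
noncomputable def toMap {n n' : ℤ} (hn : n + 1 = n') (x : M ⟶ J.X n) (hx : x ≫ J.d n n' = 0) :
    sgl M n ⟶ J :=
  HomologicalComplex.mkHomFromSingle x fun k hk => by
    simp only [ComplexShape.up_Rel] at hk
    obtain rfl : k = n' := by omega
    exact hx

lemma toMap_f {n n' : ℤ} (hn : n + 1 = n') (x : M ⟶ J.X n) (hx : x ≫ J.d n n' = 0) :
    (toMap hn x hx).f n = (HomologicalComplex.singleObjXSelf (ComplexShape.up ℤ) n M).hom ≫ x :=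
  HomologicalComplex.mkHomFromSingle_f _ _

lemma Q_map_toMap_boundary {n' n n'' : ℤ} (hn' : n' + 1 = n) (hn : n + 1 = n'') (y : M ⟶ J.X n')
    (hy : (y ≫ J.d n' n) ≫ J.d n n'' = 0) :
    DerivedCategory.Q.map (toMap hn (y ≫ J.d n' n) hy) = 0 := by
  classical
  let h : ∀ i j : ℤ, (ComplexShape.up ℤ).Rel j i → ((sgl M n).X i ⟶ J.X j) := fun i j hij =>
    if hi : i = n then
      ((sgl M n).XIsoOfEq hi).hom ≫ (HomologicalComplex.singleObjXSelf (ComplexShape.up ℤ) n M).hom ≫ y ≫
        (J.XIsoOfEq (show n' = j by simp only [ComplexShape.up_Rel] at hij; omega)).hom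
    else 0
  have e : toMap hn (y ≫ J.d n' n) hy = Homotopy.nullHomotopicMap' h := by
    refine HomologicalComplex.from_single_hom_ext ?_
    rw [toMap_f, Homotopy.nullHomotopicMap'_f (k₂ := n') (k₀ := n'') (by simpa using hn') (by simpa using hn)]
    have : (sgl M n).d n n'' = 0 := HomologicalComplex.single_obj_d _ _ _ _ _
    rw [this, zero_comp, zero_add]
    simp [h]
  have hh : Homotopy (toMap hn (y ≫ J.d n' n) hy) 0 := e ▸ Homotopy.nullHomotopy' h
  rw [← cancel_epi ((DerivedCategory.quotientCompQhIso (ModuleCat.{u} A)).hom.app (sgl M n))]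
  refine ((DerivedCategory.quotientCompQhIso (ModuleCat.{u} A)).hom.naturality _).symm.trans ?_
  rw [Functor.comp_map, HomotopyCategory.eq_of_homotopy _ _ hh, Functor.map_zero, Functor.map_zero,
    zero_comp, comp_zero]

variable [J.IsKInjective]

lemma exists_eq_d {n' n n'' : ℤ} (hn' : n' + 1 = n) (hn : n + 1 = n'') (x : M ⟶ J.X n)
    (hx : x ≫ J.d n n'' = 0) (h : DerivedCategory.Q.map (toMap hn x hx) = 0) :
    ∃ y : M ⟶ J.X n', y ≫ J.d n' n = x := by
  have h0 : (HomotopyCategory.quotient (ModuleCat.{u} A) (ComplexShape.up ℤ)).map (toMap hn x hx) = 0 := by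
    refine (CochainComplex.IsKInjective.Qh_map_bijective _ J).1 ?_
    rw [Functor.map_zero,
      ← cancel_mono ((DerivedCategory.quotientCompQhIso (ModuleCat.{u} A)).hom.app J), zero_comp]
    refine ((DerivedCategory.quotientCompQhIso (ModuleCat.{u} A)).hom.naturality (toMap hn x hx)).trans ?_
    rw [h, comp_zero]
  let H : Homotopy (toMap hn x hx) 0 :=
    HomotopyCategory.homotopyOfEq _ _ (by rw [h0, Functor.map_zero])
  refine ⟨(HomologicalComplex.singleObjXSelf (ComplexShape.up ℤ) n M).inv ≫ H.hom n n', ?_⟩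
  have hc := H.comm n
  rw [toMap_f, dNext_eq H.hom (show (ComplexShape.up ℤ).Rel n n'' by simpa using hn),
    prevD_eq H.hom (show (ComplexShape.up ℤ).Rel n' n by simpa using hn'),
    show (sgl M n).d n n'' = 0 from HomologicalComplex.single_obj_d _ _ _ _ _, zero_comp, zero_add] at hc
  simp only [HomologicalComplex.zero_f, add_zero] at hc
  rw [Category.assoc, ← hc, Iso.inv_hom_id_assoc]

lemma exists_toMap {n n' : ℤ} (hn : n + 1 = n') (φ : DerivedCategory.Q.obj (sgl M n) ⟶ DerivedCategory.Q.obj J) :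
    ∃ (x : M ⟶ J.X n) (hx : x ≫ J.d n n' = 0), DerivedCategory.Q.map (toMap hn x hx) = φ := by
  obtain ⟨f', hf⟩ := (CochainComplex.IsKInjective.Qh_map_bijective _ J).2
    ((DerivedCategory.quotientCompQhIso (ModuleCat.{u} A)).hom.app (sgl M n) ≫ φ ≫
      (DerivedCategory.quotientCompQhIso (ModuleCat.{u} A)).inv.app J)
  obtain ⟨f, rfl⟩ := (HomotopyCategory.quotient _ (ComplexShape.up ℤ)).map_surjective f'
  have hQ : DerivedCategory.Q.map f = φ := by
    rw [← cancel_epi ((DerivedCategory.quotientCompQhIso (ModuleCat.{u} A)).hom.app (sgl M n))]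
    refine ((DerivedCategory.quotientCompQhIso (ModuleCat.{u} A)).hom.naturality f).symm.trans ?_
    exact (congrArg (· ≫ _) hf).trans (by simp)
  refine ⟨(HomologicalComplex.singleObjXSelf (ComplexShape.up ℤ) n M).inv ≫ f.f n, ?_, ?_⟩
  · rw [Category.assoc, f.comm n n', show (sgl M n).d n n' = 0 from HomologicalComplex.single_obj_d _ _ _ _ _,
      zero_comp, comp_zero]
  · rw [← hQ]
    congr 1
    refine HomologicalComplex.from_single_hom_ext ?_
    rw [toMap_f, Iso.hom_inv_id_assoc]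

/-- Vanishing of maps gives exactness. -/
lemma exactAt_HC (n : ℤ)
    (h : ∀ φ : DerivedCategory.Q.obj (sgl M n) ⟶ DerivedCategory.Q.obj J, φ = 0) :
    (HC M J).ExactAt n := by
  rw [(HC M J).exactAt_iff' (n - 1) n (n + 1) (by simp) (by simp), ShortComplex.moduleCat_exact_iff]
  intro x hx
  obtain ⟨y, hy⟩ := exists_eq_d (n' := n - 1) (by omega) rfl (x : M ⟶ J.X n) hx (h _)
  exact ⟨y, hy⟩

variable {V : Dual.D A} (ι₀ : Dual.inD A M ≅ DerivedCategory.Q.obj (sgl M 0)) (e : DerivedCategory.Q.obj J ≅ V)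

/-- The cycles of `Hom(M, J)` in degree zero give maps. -/
noncomputable def psi :
    LinearMap.ker ((HC M J).sc' (-1) 0 1).g.hom →ₗ[A] (Dual.inD A M ⟶ V) where
  toFun x := ι₀.hom ≫ DerivedCategory.Q.map (toMap (by omega) (x.1 : M ⟶ J.X 0) x.2) ≫ e.hom
  map_add' x y := by
    rw [← Preadditive.comp_add, ← Preadditive.add_comp, ← Functor.map_add]
    congr 3
    refine HomologicalComplex.from_single_hom_ext ?_
    rw [HomologicalComplex.add_f_apply, toMap_f, toMap_f, toMap_f]
    exact Preadditive.comp_add _ _ _ _ (x.1 : M ⟶ J.X 0) (y.1 : M ⟶ J.X 0)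
  map_smul' a x := by
    rw [RingHom.id_apply, ← Linear.comp_smul, ← Linear.smul_comp, ← Functor.map_smul]
    congr 3
    refine HomologicalComplex.from_single_hom_ext ?_
    rw [HomologicalComplex.smul_f_apply, toMap_f, toMap_f]
    exact Linear.comp_smul _ _ _ _ a (x.1 : M ⟶ J.X 0)

include ι₀ e in
/-- The degree zero cohomology. -/
lemma nonempty_homology_zero {N : Type u} [AddCommGroup N] [Module A N]
    (en : (Dual.inD A M ⟶ V) ≃ₗ[A] N) :
    Nonempty ((HC M J).homology 0 ≅ ModuleCat.of A N) := by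
  let S := (HC M J).sc' (-1) 0 1
  have hsurj : Function.Surjective (psi ι₀ e) := fun φ => by
    obtain ⟨x, hx, hφ⟩ := exists_toMap (n := 0) (n' := 1) (by omega) (ι₀.inv ≫ φ ≫ e.inv)
    refine ⟨⟨x, hx⟩, ?_⟩
    show ι₀.hom ≫ DerivedCategory.Q.map (toMap _ x hx) ≫ e.hom = φ
    rw [hφ]
    simp
  have hker : LinearMap.range S.moduleCatToCycles = LinearMap.ker (psi ι₀ e) := by
    ext x
    constructor
    · rintro ⟨y, rfl⟩
      show ι₀.hom ≫ DerivedCategory.Q.map (toMap _ _ _) ≫ e.hom = 0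
      have hy : ((y : M ⟶ J.X (-1)) ≫ J.d (-1) 0) ≫ J.d 0 1 = 0 := by
        rw [Category.assoc, HomologicalComplex.d_comp_d, comp_zero]
      have := Q_map_toMap_boundary (show (-1 : ℤ) + 1 = 0 by omega) (show (0 : ℤ) + 1 = 1 by omega)
        (y : M ⟶ J.X (-1)) hy
      refine (congrArg (fun t => ι₀.hom ≫ t ≫ e.hom) this).trans ?_
      simp
    · intro hx
      change ι₀.hom ≫ DerivedCategory.Q.map (toMap _ _ _) ≫ e.hom = 0 at hx
      rw [← Category.assoc] at hx
      have h1 := (cancel_mono e.hom).1 (hx.trans zero_comp.symm)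
      have h2 := (cancel_epi ι₀.hom).1 (h1.trans comp_zero.symm)
      obtain ⟨y, hy⟩ := exists_eq_d (n' := -1) (by omega) _ (x.1 : M ⟶ J.X 0) x.2 h2
      exact ⟨y, Subtype.ext hy⟩
  exact ⟨((HC M J).homologyIsoSc' (-1) 0 1 (by simp) (by simp)) ≪≫ S.moduleCatHomologyIso ≪≫
    ((Submodule.quotEquivOfEq _ _ hker) ≪≫ₗ (psi ι₀ e).quotKerEquivOfSurjective hsurj ≪≫ₗ en).toModuleIso⟩

end Groth.Agent.CohDer1.RHomFin
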