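import Groth.Agent.CohDer1.RHomFin.HomCx
import Groth.Agent.DCat.OpenDerived
import Groth.Agent.DCat.GPDerived
import Groth.Agent.DCat.KInjRes
import Groth.Agent.DualLib.Matlis
import Mathlib.Algebra.Category.ModuleCat.Injective

/-! The triangle `RHom(A/I, ω) → ω → Hom(I, E)`. -/

set_option autoImplicit false
set_option backward.isDefEq.respectTransparency false
set_option backward.defeqAttrib.useBackward true
set_option linter.style.haveILetI false

universe u

open CategoryTheory CategoryTheory.Limits CategoryTheory.Pretriangulated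

attribute [local instance] HasDerivedCategory.standard

namespace Groth.Agent.CohDer1.RHomFin

theorem exists_triangle (A : Type u) [CommRing A] [IsLocalRing A] [IsNoetherianRing A] (ω : Dual.D A)
    (hω : Dual.IsDualizing A ω) (hn : Dual.IsNormalized A ω) (I : Ideal A)
    (hIl : IsFiniteLength A I) (E : Type u) [AddCommGroup E] [Module A E]
    (e₀ : IsLocalRing.ResidueField A →ₗ[A] E) (he : InjHull.IsInjectiveHull e₀)
    (R : Dual.D A ⥤ Dual.D (A ⧸ I)) (adj : DRing.restrictD (Ideal.Quotient.mk I) ⊣ R) :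
    ∃ (u : (DRing.restrictD (Ideal.Quotient.mk I)).obj (R.obj ω) ⟶ ω) (v : ω ⟶ Dual.inD A (I →ₗ[A] E))
      (w : Dual.inD A (I →ₗ[A] E) ⟶ ((DRing.restrictD (Ideal.Quotient.mk I)).obj (R.obj ω))⟦(1 : ℤ)⟧),
      Triangle.mk u v w ∈ distinguishedTriangles := by
  let φ := Ideal.Quotient.mk I
  let M := ModuleCat.{u} A
  let F := ModuleCat.restrictScalars.{u} φ
  let G := ModuleCat.coextendScalars.{u} φ
  let a : F ⊣ G := ModuleCat.restrictCoextendScalarsAdj φ
  haveI : F.Additive := inferInstance
  haveI : G.Additive := a.right_adjoint_additive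
  have hK : Groth.Agent.DCat.EnoughKInj M := Groth.Agent.DCat.enoughKInj_of_isGrothendieckAbelian
  let C := G.mapHomotopyCategory (ComplexShape.up ℤ) ⋙ DerivedCategory.Qh
  haveI : C.HasRightDerivedFunctor (HomotopyCategory.quasiIso M (ComplexShape.up ℤ)) :=
    Groth.Agent.DCat.hasRightDerivedFunctor_of_enoughKInj hK _
  obtain ⟨⟨b⟩, -⟩ := Groth.Agent.DCat.derived_localization hK a
  let iR := adj.rightAdjointUniq b
  obtain ⟨J, i₀, hJ, hq, -, hinj⟩ := Groth.Agent.DCat.exists_kInj_res (DerivedCategory.Q.objPreimage ω)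
  haveI := hq
  haveI := hJ
  let e : DerivedCategory.Q.obj J ≅ ω :=
    (asIso (DerivedCategory.Q.map i₀)).symm ≪≫ DerivedCategory.Q.objObjPreimageIso ω
  let IM : ModuleCat.{u} A := ModuleCat.of A I
  -- the short exact sequence of complexes
  let ev : ((G ⋙ F).mapHomologicalComplex (ComplexShape.up ℤ)).obj J ⟶ J :=
    { f := fun n => a.counit.app (J.X n)
      comm' := fun p q _ => (a.counit.naturality (J.d p q)).symm }
  let g : J ⟶ HC IM J :=
    { f := fun n => ModuleCat.ofHom
        { toFun := fun x => ModuleCat.ofHom ((LinearMap.toSpanSingleton A (J.X n) x).comp I.subtype)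
          map_add' := fun x y => ModuleCat.hom_ext (LinearMap.ext fun i => smul_add (i : A) x y)
          map_smul' := fun r x => ModuleCat.hom_ext (LinearMap.ext fun i => smul_comm (i : A) r x) }
      comm' := fun p q _ => ModuleCat.hom_ext (LinearMap.ext fun x => ModuleCat.hom_ext (LinearMap.ext fun i =>
        map_smul (J.d p q).hom (i : A) x)) }
  have hz : ev ≫ g = 0 := by
    ext n (x : G.obj (J.X n))
    refine ModuleCat.hom_ext (LinearMap.ext fun i => ?_)
    show (i : A) • ((ModuleCat.CoextendScalars.equiv φ (J.X n) x) (1 : A ⧸ I)) = 0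
    rw [← map_smul]
    have h0 : ((i : A) • (1 : A ⧸ I) : (ModuleCat.restrictScalars φ).obj (ModuleCat.of _ (A ⧸ I))) = 0 := by
      show φ (i : A) * 1 = 0
      rw [mul_one]
      exact Ideal.Quotient.eq_zero_iff_mem.2 i.2
    exact (congrArg _ h0).trans (map_zero _)
  let S := ShortComplex.mk ev g hz
  have hS : S.ShortExact := by
    refine HomologicalComplex.shortExact_of_degreewise_shortExact _ fun n => ?_
    let Sn := S.map (HomologicalComplex.eval M (ComplexShape.up ℤ) n)
    have hmono : Function.Injective Sn.f.hom := fun (x y : G.obj (J.X n)) h => by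
      apply ModuleCat.CoextendScalars.ext
      refine LinearMap.ext fun (s : A ⧸ I) => ?_
      obtain ⟨r, rfl⟩ := Ideal.Quotient.mk_surjective s
      have hr : (φ r : A ⧸ I) =
          (r • (1 : A ⧸ I) : (ModuleCat.restrictScalars φ).obj (ModuleCat.of _ (A ⧸ I))) := by
        show φ r = φ r * 1
        rw [mul_one]
      change (ModuleCat.CoextendScalars.equiv φ (J.X n) x) (1 : A ⧸ I) =
        (ModuleCat.CoextendScalars.equiv φ (J.X n) y) (1 : A ⧸ I) at h
      have key : ∀ z : G.obj (J.X n), (ModuleCat.CoextendScalars.equiv φ (J.X n) z) (φ r) =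
          r • (ModuleCat.CoextendScalars.equiv φ (J.X n) z) (1 : A ⧸ I) := fun z =>
        (congrArg _ hr).trans (map_smul _ r _)
      exact (key x).trans ((congrArg (r • ·) h).trans (key y).symm)
    refine { exact := ?_, mono_f := (ModuleCat.mono_iff_injective _).2 hmono, epi_g := (ModuleCat.epi_iff_surjective _).2 ?_ }
    · rw [ShortComplex.moduleCat_exact_iff]
      intro (x : J.X n) hx
      have hx' : ∀ i : I, (i : A) • x = 0 := fun i => ConcreteCategory.congr_hom hx i
      let l : (A ⧸ I) →ₗ[A] J.X n :=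
        Submodule.liftQ _ (LinearMap.toSpanSingleton A _ x) (fun r hr => hx' ⟨r, hr⟩)
      refine ⟨(ModuleCat.CoextendScalars.equiv φ (J.X n)).symm
        { toFun := fun s : A ⧸ I => l s
          map_add' := fun p q => map_add l p q
          map_smul' := fun r (s : A ⧸ I) => ?_ }, ?_⟩
      · refine Eq.trans ?_ (map_smul l r s)
        exact congrArg l (Algebra.smul_def r s).symm
      · show l (1 : A ⧸ I) = x
        exact (Submodule.liftQ_apply _ _ (1 : A)).trans (one_smul A x)
    · intro (f : IM ⟶ J.X n)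
      haveI : Injective (ModuleCat.of A (J.X n)) := hinj n
      haveI : Module.Injective A (J.X n) := (Module.injective_iff_injective_object A (J.X n)).2 inferInstance
      obtain ⟨g', hg'⟩ := Module.Injective.out (R := A) I.subtype Subtype.val_injective f.hom
      refine ⟨g' 1, ?_⟩
      refine ModuleCat.hom_ext (LinearMap.ext fun i => ?_)
      show (i : A) • g' 1 = f.hom i
      rw [← map_smul, smul_eq_mul, mul_one]
      exact hg' i
  have hT := DerivedCategory.triangleOfSES_distinguished hS
  -- the cokernel complex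
  haveI : IsNoetherian A I := inferInstance
  have hvan : ∀ n : ℤ, n ≠ 0 → (HC IM J).ExactAt n := fun n hn0 => exactAt_HC n fun ψ => by
    haveI hsub : Subsingleton (Dual.inD A I ⟶ ω⟦n⟧) :=
      Groth.Agent.DualLib.subsingleton_of_ne hn I (Groth.Agent.DualLib.support_subset_of_isFiniteLength hIl) n hn0
    let χ : (Dual.inD A I)⟦-n⟧ ⟶ ω := (DRingLib.singleIso n IM).hom ≫ ψ ≫ e.hom
    have h0 : (shiftFunctorCompIsoId (Dual.D A) (-n) n (by omega)).inv.app (Dual.inD A I) ≫ χ⟦n⟧' = 0 :=
      @Subsingleton.elim (Dual.inD A I ⟶ ω⟦n⟧) hsub _ _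
    have h1 : χ⟦n⟧' = 0 :=
      (cancel_epi ((shiftFunctorCompIsoId (Dual.D A) (-n) n (by omega)).inv.app (Dual.inD A I))).1
        (h0.trans comp_zero.symm)
    have h2 : χ = 0 := (shiftFunctor (Dual.D A) n).map_injective (h1.trans (Functor.map_zero _ _ _).symm)
    rw [← cancel_epi (DRingLib.singleIso n IM).hom, comp_zero, ← cancel_mono e.hom, zero_comp, Category.assoc]
    exact h2
  obtain ⟨hH⟩ := nonempty_homology_zero (M := IM) (J := J)
    ((DerivedCategory.singleFunctorIsoCompQ (ModuleCat.{u} A) 0).app IM) e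
    (Groth.Agent.DualLib.exists_matlis_equiv' hω hn he I hIl).some
  let HQ' : ∀ i, (DerivedCategory.homologyFunctor (ModuleCat.{u} A) i).obj (DerivedCategory.Q.obj (HC IM J)) ≅
      (HC IM J).homology i := fun i => (DerivedCategory.homologyFunctorFactors (ModuleCat.{u} A) i).app _
  haveI : (DerivedCategory.Q.obj (HC IM J)).IsGE 0 := by
    rw [DerivedCategory.isGE_iff]
    intro i hi
    exact ((HomologicalComplex.exactAt_iff_isZero_homology _ _).1 (hvan i (by omega))).of_iso (HQ' i)
  haveI : (DerivedCategory.Q.obj (HC IM J)).IsLE 0 := by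
    rw [DerivedCategory.isLE_iff]
    intro i hi
    exact ((HomologicalComplex.exactAt_iff_isZero_homology _ _).1 (hvan i (by omega))).of_iso (HQ' i)
  obtain ⟨N, ⟨eN⟩⟩ := DerivedCategory.exists_iso_singleFunctor_obj_of_isGE_of_isLE (DerivedCategory.Q.obj (HC IM J)) 0
  let eN' : N ≅ ModuleCat.of A (I →ₗ[A] E) :=
    ((DerivedCategory.singleFunctorCompHomologyFunctorIso (ModuleCat.{u} A) 0).app N).symm ≪≫
      (DerivedCategory.homologyFunctor (ModuleCat.{u} A) 0).mapIso eN.symm ≪≫ HQ' 0 ≪≫ hH
  let c : DerivedCategory.Q.obj (HC IM J) ≅ Dual.inD A (I →ₗ[A] E) :=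
    eN ≪≫ (DerivedCategory.singleFunctor (ModuleCat.{u} A) 0).mapIso eN'
  let j : (DRing.restrictD φ).obj (R.obj ω) ≅ DerivedCategory.Q.obj S.X₁ :=
    (DRing.restrictD φ).mapIso (R.mapIso e.symm ≪≫ iR.app _ ≪≫
        Groth.Agent.DCat.OpenDerived.rfQIso hK C J ≪≫ (DerivedCategory.quotientCompQhIso _).app _) ≪≫
      F.mapDerivedCategoryFactors.app _ ≪≫
      DerivedCategory.Q.mapIso (HomologicalComplex.Hom.isoOfComponents (fun n => Iso.refl _)
        (fun p q _ => (Category.id_comp _).trans (Category.comp_id _).symm))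
  refine ⟨j.hom ≫ DerivedCategory.Q.map ev ≫ e.hom, e.inv ≫ DerivedCategory.Q.map g ≫ c.hom,
    c.inv ≫ DerivedCategory.triangleOfSESδ hS ≫ (shiftFunctor (Dual.D A) (1 : ℤ)).map j.inv, ?_⟩
  refine Pretriangulated.isomorphic_distinguished _ hT _
    (Pretriangulated.Triangle.isoMk _ _ j e.symm c.symm ?_ ?_ ?_)
  · dsimp [DerivedCategory.triangleOfSES, S]
    refine (Category.assoc _ _ _).trans (congrArg (j.hom ≫ ·) ?_)
    exact (Category.assoc _ _ _).trans ((congrArg (DerivedCategory.Q.map ev ≫ ·) e.hom_inv_id).trans (Category.comp_id _))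
  · dsimp [DerivedCategory.triangleOfSES, S]
    refine (Category.assoc _ _ _).trans (congrArg (e.inv ≫ ·) ?_)
    exact (Category.assoc _ _ _).trans ((congrArg (DerivedCategory.Q.map g ≫ ·) c.hom_inv_id).trans (Category.comp_id _))
  · dsimp [DerivedCategory.triangleOfSES, S]
    refine (Category.assoc _ _ _).trans (congrArg (c.inv ≫ ·) ?_)
    refine (Category.assoc _ _ _).trans ((congrArg (DerivedCategory.triangleOfSESδ hS ≫ ·) ?_).trans (Category.comp_id _))
    exact ((shiftFunctor (Dual.D A) (1 : ℤ)).mapIso j).inv_hom_id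

end Groth.Agent.CohDer1.RHomFin
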